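import Mathlib
import Cfsg.Agent.S0031
import Cfsg.Agent.S0032

set_option autoImplicit false

namespace Cfsg.Agent.Lib.Helper1.FPF

universe u

section

variable {G : Type u} [Group G]

def Inv (φ : G ≃* G) (S : Subgroup G) : Prop := ∀ x ∈ S, φ x ∈ S

theorem map_eq_of_inv [Finite G] {φ : G ≃* G} {S : Subgroup G} (h : Inv φ S) :
    S.map (φ : G →* G) = S := by
  apply Subgroup.eq_of_le_of_card_ge
  · rintro _ ⟨x, hx, rfl⟩
    exact h x hx
  · rw [Subgroup.card_map_of_injective φ.injective]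

theorem inv_of_map_eq {φ : G ≃* G} {S : Subgroup G} (h : S.map (φ : G →* G) = S) : Inv φ S := by
  intro x hx
  rw [← h]
  exact ⟨x, hx, rfl⟩

theorem inv_symm [Finite G] {φ : G ≃* G} {S : Subgroup G} (h : Inv φ S) (x : G) (hx : φ x ∈ S) :
    x ∈ S := by
  have h1 := map_eq_of_inv h
  rw [← h1] at hx
  obtain ⟨y, hy, hyx⟩ := hx
  have : y = x := φ.injective hyx
  rw [← this]
  exact hy

theorem mem_iff_of_inv [Finite G] {φ : G ≃* G} {S : Subgroup G} (h : Inv φ S) (x : G) :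
    φ x ∈ S ↔ x ∈ S := ⟨inv_symm h x, h x⟩

theorem inv_top (φ : G ≃* G) : Inv φ ⊤ := fun _ _ => Subgroup.mem_top _

theorem inv_bot (φ : G ≃* G) : Inv φ ⊥ := by
  intro x hx
  rw [Subgroup.mem_bot] at hx ⊢
  rw [hx, map_one]

theorem inv_inf {φ : G ≃* G} {S T : Subgroup G} (hS : Inv φ S) (hT : Inv φ T) : Inv φ (S ⊓ T) :=
  fun x hx => ⟨hS x hx.1, hT x hx.2⟩

theorem inv_sup {φ : G ≃* G} {S T : Subgroup G} (hS : Inv φ S) (hT : Inv φ T) : Inv φ (S ⊔ T) := by
  intro x hx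
  have h1 : S ⊔ T ≤ (S ⊔ T).comap (φ : G →* G) := by
    apply sup_le
    · intro y hy
      exact (le_sup_left : S ≤ S ⊔ T) (hS y hy)
    · intro y hy
      exact (le_sup_right : T ≤ S ⊔ T) (hT y hy)
  exact h1 hx

theorem inv_centralizer [Finite G] {φ : G ≃* G} {S : Subgroup G} (hS : Inv φ S) :
    Inv φ (Subgroup.centralizer (S : Set G)) := by
  intro x hx
  rw [Subgroup.mem_centralizer_iff] at hx ⊢
  intro s hs
  have h1 := map_eq_of_inv hS
  rw [← h1] at hs
  obtain ⟨t, ht, rfl⟩ := hs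
  show φ t * φ x = φ x * φ t
  rw [← map_mul, ← map_mul, hx t ht]

theorem inv_normalizer [Finite G] {φ : G ≃* G} {S : Subgroup G} (hS : Inv φ S) :
    Inv φ (Subgroup.normalizer (S : Set G)) := by
  intro x hx
  rw [Subgroup.mem_normalizer_iff] at hx ⊢
  intro s
  obtain ⟨t, rfl⟩ := φ.surjective s
  rw [mem_iff_of_inv hS, ← map_inv, ← map_mul, ← map_mul, mem_iff_of_inv hS]
  exact hx t

def resHom (φ : G ≃* G) (S : Subgroup G) (h : Inv φ S) : ↥S →* ↥S :=
  ((φ : G →* G).comp S.subtype).codRestrict S (fun x => h x x.2)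

theorem resHom_coe (φ : G ≃* G) (S : Subgroup G) (h : Inv φ S) (x : S) :
    ((resHom φ S h x : S) : G) = φ x := rfl

theorem resHom_injective (φ : G ≃* G) (S : Subgroup G) (h : Inv φ S) :
    Function.Injective (resHom φ S h) := by
  intro x y hxy
  have := congrArg Subtype.val hxy
  rw [resHom_coe, resHom_coe] at this
  exact Subtype.ext (φ.injective this)

noncomputable def resAut [Finite G] (φ : G ≃* G) (S : Subgroup G) (h : Inv φ S) : ↥S ≃* ↥S :=
  MulEquiv.ofBijective (resHom φ S h)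
    ⟨resHom_injective φ S h, Finite.surjective_of_injective (resHom_injective φ S h)⟩

theorem resAut_coe [Finite G] (φ : G ≃* G) (S : Subgroup G) (h : Inv φ S) (x : S) :
    ((resAut φ S h x : S) : G) = φ x := rfl

theorem resAut_pow_coe [Finite G] (φ : G ≃* G) (S : Subgroup G) (h : Inv φ S) (k : ℕ) (x : S) :
    ((((resAut φ S h : MulAut S) ^ k) x : S) : G) = ((φ : MulAut G) ^ k) x := by
  induction k generalizing x with
  | zero => simp
  | succ k ih =>
    rw [pow_succ, pow_succ, MulAut.mul_apply, MulAut.mul_apply, ih]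
    rfl

theorem resAut_fpf [Finite G] (φ : G ≃* G) (hφ : MonoidHom.FixedPointFree (φ : G →* G))
    (S : Subgroup G) (h : Inv φ S) :
    MonoidHom.FixedPointFree ((resAut φ S h : ↥S ≃* ↥S) : ↥S →* ↥S) := by
  intro x hx
  have h1 : φ (x : G) = x := congrArg Subtype.val hx
  have h2 := hφ (x : G) h1
  exact Subtype.ext h2

theorem resAut_pow_eq_one [Finite G] (φ : G ≃* G) (S : Subgroup G) (h : Inv φ S) (r : ℕ)
    (hr : (φ : MulAut G) ^ r = 1) : (resAut φ S h : MulAut S) ^ r = 1 := by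
  ext x
  rw [resAut_pow_coe, hr]
  rfl

noncomputable def quotAut [Finite G] (φ : G ≃* G) (N : Subgroup G) [N.Normal] (h : Inv φ N) :
    G ⧸ N ≃* G ⧸ N :=
  QuotientGroup.congr N N φ (map_eq_of_inv h)

theorem quotAut_mk [Finite G] (φ : G ≃* G) (N : Subgroup G) [N.Normal] (h : Inv φ N) (x : G) :
    quotAut φ N h (QuotientGroup.mk x) = QuotientGroup.mk (φ x) :=
  QuotientGroup.congr_mk N N φ (map_eq_of_inv h) x

theorem quotAut_pow_mk [Finite G] (φ : G ≃* G) (N : Subgroup G) [N.Normal] (h : Inv φ N) (k : ℕ)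
    (x : G) : ((quotAut φ N h : MulAut (G ⧸ N)) ^ k) (QuotientGroup.mk x) =
      QuotientGroup.mk (((φ : MulAut G) ^ k) x) := by
  induction k generalizing x with
  | zero => simp
  | succ k ih =>
    rw [pow_succ, pow_succ, MulAut.mul_apply, MulAut.mul_apply, quotAut_mk, ih]

theorem quotAut_fpf [Finite G] (φ : G ≃* G) (hφ : MonoidHom.FixedPointFree (φ : G →* G))
    (N : Subgroup G) [N.Normal] (h : Inv φ N) :
    MonoidHom.FixedPointFree ((quotAut φ N h : G ⧸ N ≃* G ⧸ N) : G ⧸ N →* G ⧸ N) := by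
  intro xb hxb
  obtain ⟨x, rfl⟩ := QuotientGroup.mk_surjective xb
  have h1 : quotAut φ N h (QuotientGroup.mk x) = QuotientGroup.mk x := hxb
  rw [quotAut_mk] at h1
  rw [QuotientGroup.eq_one_iff]
  apply Cfsg.Agent.S0032.result φ hφ N h x
  exact QuotientGroup.eq.mp h1

theorem quotAut_pow_eq_one [Finite G] (φ : G ≃* G) (N : Subgroup G) [N.Normal] (h : Inv φ N)
    (r : ℕ) (hr : (φ : MulAut G) ^ r = 1) : (quotAut φ N h : MulAut (G ⧸ N)) ^ r = 1 := by
  ext xb
  obtain ⟨x, rfl⟩ := QuotientGroup.mk_surjective xb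
  rw [quotAut_pow_mk, hr]
  rfl

end

end Cfsg.Agent.Lib.Helper1.FPF
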