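import Mathlib
import Cfsg.Agent.Lib.Helper1.FPF.Basic
import Cfsg.Agent.Lib.Helper1.TNPC.QuadRep

set_option autoImplicit false

namespace Cfsg.Agent.Lib.Helper1.FPF

open Cfsg.Agent.Lib.Helper1.TNPC

open scoped IsMulCommutative

universe u

section

variable {G : Type u} [Group G]

theorem pow_apply_eq_self (ψ : MulAut G) (x : G) (h : ψ x = x) (m : ℕ) : (ψ ^ m) x = x := by
  induction m with
  | zero => simp
  | succ m ih => rw [pow_succ, MulAut.mul_apply, h, ih]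

theorem fixed_of_pow_fixed (φ : MulAut G) {r k : ℕ} (hr : r.Prime) (hφr : φ ^ r = 1)
    (hk0 : 0 < k) (hkr : k < r) (x : G) (hx : (φ ^ k) x = x) : φ x = x := by
  have hcop : Nat.Coprime k r := (Nat.coprime_primes_of_lt hk0 hkr hr)
  obtain ⟨m, _, hm⟩ := Nat.exists_mul_mod_eq_one_of_coprime hcop hr.one_lt
  have h1 : (φ ^ k) ^ m = φ := by
    rw [← pow_mul, pow_eq_pow_mod (k * m) hφr, hm, pow_one]
  have h2 := pow_apply_eq_self (φ ^ k) x hx m
  rw [h1] at h2
  exact h2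
where
  Nat.coprime_primes_of_lt {k r : ℕ} (hk0 : 0 < k) (hkr : k < r) (hr : r.Prime) : Nat.Coprime k r := by
    rw [Nat.coprime_comm]
    exact (Nat.Prime.coprime_iff_not_dvd hr).mpr (fun hd => absurd (Nat.le_of_dvd hk0 hd) (not_le.mpr hkr))

theorem inv_pow {φ : G ≃* G} {S : Subgroup G} (h : Inv φ S) (k : ℕ) (x : G) (hx : x ∈ S) :
    ((φ : MulAut G) ^ k) x ∈ S := by
  induction k generalizing x with
  | zero => simpa using hx
  | succ k ih =>
    rw [pow_succ, MulAut.mul_apply]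
    exact ih _ (h x hx)

end

section Ring

variable {G : Type u} [Group G] [Finite G] (φ : G ≃* G) (N : Subgroup G) [hNn : N.Normal]
  [hNc : IsMulCommutative N] (hN : Inv φ N)

def PhiEnd : AddMonoid.End (Additive ↥N) := MonoidHom.toAdditive (resHom φ N hN)

theorem PhiEnd_apply_val (w : Additive ↥N) :
    ((Additive.toMul (PhiEnd φ N hN w) : ↥N) : G) = φ ((Additive.toMul w : ↥N) : G) := rfl

theorem PhiEnd_pow_apply_val (k : ℕ) (w : Additive ↥N) :
    ((Additive.toMul ((PhiEnd φ N hN ^ k) w) : ↥N) : G) =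
      ((φ : MulAut G) ^ k) ((Additive.toMul w : ↥N) : G) := by
  induction k generalizing w with
  | zero => simp
  | succ k ih =>
    rw [pow_succ, pow_succ, MulAut.mul_apply]
    show ((Additive.toMul ((PhiEnd φ N hN ^ k) (PhiEnd φ N hN w)) : ↥N) : G) = _
    rw [ih, PhiEnd_apply_val]

theorem PhiEnd_pow_eq_one {r : ℕ} (hr : (φ : MulAut G) ^ r = 1) : PhiEnd φ N hN ^ r = 1 := by
  ext w
  rw [PhiEnd_pow_apply_val, hr]
  rfl

theorem PhiEnd_mul_rho (g : G) : PhiEnd φ N hN * rho N g = rho N (φ g) * PhiEnd φ N hN := by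
  ext w
  show ((Additive.toMul (PhiEnd φ N hN (rho N g w)) : ↥N) : G) =
    ((Additive.toMul (rho N (φ g) (PhiEnd φ N hN w)) : ↥N) : G)
  obtain ⟨v, rfl⟩ : ∃ v : ↥N, Additive.ofMul v = w := ⟨Additive.toMul w, rfl⟩
  rw [PhiEnd_apply_val, rho_apply_val]
  have h1 : PhiEnd φ N hN (Additive.ofMul v) = Additive.ofMul (resHom φ N hN v) := rfl
  rw [h1, rho_apply_val, resHom_coe]
  simp [map_mul, map_inv]

theorem PhiEnd_pow_mul_rho (k : ℕ) (g : G) :
    PhiEnd φ N hN ^ k * rho N g = rho N (((φ : MulAut G) ^ k) g) * PhiEnd φ N hN ^ k := by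
  induction k generalizing g with
  | zero => simp
  | succ k ih =>
    rw [pow_succ, mul_assoc, PhiEnd_mul_rho, ← mul_assoc, ih, mul_assoc, pow_succ,
      MulAut.mul_apply]

theorem geom_eq_zero (hφ : MonoidHom.FixedPointFree (φ : G →* G)) {r : ℕ}
    (hr : (φ : MulAut G) ^ r = 1) : ∑ k ∈ Finset.range r, PhiEnd φ N hN ^ k = 0 := by
  have h1 := mul_geom_sum (PhiEnd φ N hN) r
  rw [PhiEnd_pow_eq_one φ N hN hr, sub_self, sub_mul, one_mul, sub_eq_zero] at h1
  ext w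
  set n := (∑ k ∈ Finset.range r, PhiEnd φ N hN ^ k) w with hn
  have h2 : PhiEnd φ N hN n = n := by
    have := congrArg (fun f => f w) h1
    exact this
  have h3 : φ ((Additive.toMul n : ↥N) : G) = ((Additive.toMul n : ↥N) : G) := by
    rw [← PhiEnd_apply_val φ N hN, h2]
  have h4 := hφ _ h3
  rw [h4]
  rfl

theorem conj_sum_eq_zero (hφ : MonoidHom.FixedPointFree (φ : G →* G)) {r : ℕ}
    (hr : (φ : MulAut G) ^ r = 1) (y : G) :
    ∑ k ∈ Finset.range r, rho N (y⁻¹ * ((φ : MulAut G) ^ k) y) * PhiEnd φ N hN ^ k = 0 := by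
  have h1 : rho N y⁻¹ * (∑ k ∈ Finset.range r, PhiEnd φ N hN ^ k) * rho N y = 0 := by
    rw [geom_eq_zero φ N hN hφ hr, mul_zero, zero_mul]
  rw [Finset.mul_sum, Finset.sum_mul] at h1
  rw [← h1]
  apply Finset.sum_congr rfl
  intro k _
  rw [mul_assoc, PhiEnd_pow_mul_rho, ← mul_assoc, ← map_mul]

end Ring

end Cfsg.Agent.Lib.Helper1.FPF
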