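import Mathlib
import Cfsg.Agent.Lib.Helper1.FPF.RingArg

set_option autoImplicit false

namespace Cfsg.Agent.Lib.Helper1.FPF

open Cfsg.Agent.Lib.Helper1.TNPC

open scoped IsMulCommutative

universe u

section Ring2

variable {G : Type u} [Group G] [Finite G] (φ : G ≃* G) (N : Subgroup G) [hNn : N.Normal]
  [hNc : IsMulCommutative N]

theorem sumP_eq_zero (P : Subgroup G) [Fintype ↥P]
    (hC : N ⊓ Subgroup.centralizer (P : Set G) = ⊥) :
    ∑ z : ↥P, rho N (z : G) = 0 := by
  have hfix : ∀ x : ↥P, rho N (x : G) * ∑ z : ↥P, rho N (z : G) = ∑ z : ↥P, rho N (z : G) := by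
    intro x
    rw [Finset.mul_sum]
    have h1 : ∀ z : ↥P, rho N (x : G) * rho N (z : G) = rho N (((x * z : ↥P)) : G) := by
      intro z
      rw [Subgroup.coe_mul, map_mul]
    simp_rw [h1]
    exact (Group.mulLeft_bijective x).sum_comp (fun z : ↥P => rho N (z : G))
  ext w
  obtain ⟨v, hv⟩ : ∃ v : ↥N, Additive.ofMul v = (∑ z : ↥P, rho N (z : G)) w :=
    ⟨Additive.toMul _, rfl⟩
  rw [← hv]
  have hmem : (v : G) ∈ N ⊓ Subgroup.centralizer (P : Set G) := by
    refine ⟨v.2, ?_⟩
    show (v : G) ∈ Subgroup.centralizer (P : Set G)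
    rw [Subgroup.mem_centralizer_iff]
    intro x hx
    have h1 := congrArg (fun f => f w) (hfix ⟨x, hx⟩)
    have h2 : rho N x (Additive.ofMul v) = Additive.ofMul v := by
      rw [hv]
      exact h1
    have h3 := congrArg (fun t => ((Additive.toMul t : ↥N) : G)) h2
    simp only [rho_apply_val] at h3
    have h4 : x * (v : G) * x⁻¹ = (v : G) := h3
    calc x * (v : G) = (x * (v : G) * x⁻¹) * x := by group
      _ = (v : G) * x := by rw [h4]
  rw [hC, Subgroup.mem_bot] at hmem
  exact hmem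

theorem eq_bot_of_fpf_coprime (hN : Inv φ N) (hφ : MonoidHom.FixedPointFree (φ : G →* G)) {r : ℕ}
    (hrp : r.Prime) (hr : (φ : MulAut G) ^ r = 1) (P : Subgroup G) (hP : Inv φ P)
    (hcop : (Nat.card N).Coprime (Nat.card P))
    (hC : N ⊓ Subgroup.centralizer (P : Set G) = ⊥) : N = ⊥ := by
  classical
  haveI : Fintype ↥P := Fintype.ofFinite _
  have hT := sumP_eq_zero N P hC
  have hsum : ∑ y : ↥P, ∑ k ∈ Finset.range r,
      rho N ((y : G)⁻¹ * ((φ : MulAut G) ^ k) (y : G)) * PhiEnd φ N hN ^ k = 0 :=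
    Finset.sum_eq_zero (fun y _ => conj_sum_eq_zero φ N hN hφ hr (y : G))
  rw [Finset.sum_comm] at hsum
  have hk : ∀ k ∈ Finset.range r, k ≠ 0 →
      ∑ y : ↥P, rho N ((y : G)⁻¹ * ((φ : MulAut G) ^ k) (y : G)) * PhiEnd φ N hN ^ k = 0 := by
    intro k hk hk0
    rw [← Finset.sum_mul]
    have h1 : ∑ y : ↥P, rho N ((y : G)⁻¹ * ((φ : MulAut G) ^ k) (y : G)) =
        ∑ z : ↥P, rho N (z : G) := by
      let e : ↥P → ↥P := fun y => ⟨(y : G)⁻¹ * ((φ : MulAut G) ^ k) (y : G),
        P.mul_mem (P.inv_mem y.2) (inv_pow hP k y y.2)⟩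
      have he : Function.Injective e := by
        intro a b hab
        have h1 : (a : G)⁻¹ * ((φ : MulAut G) ^ k) (a : G) =
            (b : G)⁻¹ * ((φ : MulAut G) ^ k) (b : G) := congrArg Subtype.val hab
        have h2 : ((φ : MulAut G) ^ k) ((b : G) * (a : G)⁻¹) = (b : G) * (a : G)⁻¹ := by
          rw [map_mul, map_inv]
          have h5 : ((φ : MulAut G) ^ k) (b : G) =
              (b : G) * (a : G)⁻¹ * ((φ : MulAut G) ^ k) (a : G) := by
            rw [mul_assoc, h1]
            group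
          rw [h5]
          group
        have h3 := fixed_of_pow_fixed (φ : MulAut G) hrp hr (Nat.pos_of_ne_zero hk0)
          (Finset.mem_range.mp hk) _ h2
        have h4 := hφ _ h3
        exact Subtype.ext (mul_inv_eq_one.mp h4).symm
      have hb : Function.Bijective e := Finite.injective_iff_bijective.mp he
      exact hb.sum_comp (fun z : ↥P => rho N (z : G))
    rw [h1, hT, zero_mul]
  have h0mem : 0 ∈ Finset.range r := Finset.mem_range.mpr hrp.pos
  rw [Finset.sum_eq_single_of_mem 0 h0mem (fun k hk' hk0 => hk k hk' hk0)] at hsum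
  have hcardE : ((Fintype.card ↥P : ℕ) : AddMonoid.End (Additive ↥N)) = 0 := by
    rw [← hsum]
    simp
  rw [eq_bot_iff]
  intro v hv
  rw [Subgroup.mem_bot]
  have h1 := congrArg (fun f => f (Additive.ofMul (⟨v, hv⟩ : ↥N))) hcardE
  simp only [AddMonoid.End.natCast_apply, AddMonoid.End.zero_apply] at h1
  have h2 : (⟨v, hv⟩ : ↥N) ^ Fintype.card ↥P = 1 := by
    have := congrArg Additive.toMul h1
    simpa using this
  have h3 : (⟨v, hv⟩ : ↥N) ^ Nat.card ↥N = 1 := pow_card_eq_one'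
  rw [← Nat.card_eq_fintype_card] at h2
  have h4 := (pow_eq_one_iff_of_coprime hcop).mp ⟨h3, h2⟩
  exact congrArg Subtype.val h4

end Ring2

end Cfsg.Agent.Lib.Helper1.FPF
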