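import Mathlib
import Cfsg.Agent.Lib.Helper1.FPF.RingArg2
import Cfsg.Agent.Lib.Helper1.TNPC.NilMax

set_option autoImplicit false

namespace Cfsg.Agent.Lib.Helper1.FPF

open Cfsg Cfsg.Agent.S5306 Cfsg.Agent.Lib.Helper1.TNPC

open scoped Pointwise

universe u

structure FCtx (r : ℕ) (G : Type u) [Group G] [Finite G] (φ : G ≃* G) : Prop where
  hr : r.Prime
  fpf : MonoidHom.FixedPointFree (φ : G →* G)
  pow : (φ : MulAut G) ^ r = 1
  sub : ∀ S : Subgroup G, Inv φ S → S ≠ ⊤ → Group.IsNilpotent S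
  quot : ∀ (N : Subgroup G) [N.Normal], Inv φ N → N ≠ ⊥ → Group.IsNilpotent (G ⧸ N)
  cex : ¬ Group.IsNilpotent G

section

variable {G : Type u} [Group G] [Finite G]

theorem isNilpotent_of_sylow_normal
    (h : ∀ (p : ℕ) [Fact p.Prime], ∃ P : Sylow p G, (P : Subgroup G).Normal) :
    Group.IsNilpotent G := by
  apply (Group.isNilpotent_of_finite_tfae (G := G)).out 3 0 |>.mp
  intro p hp P
  haveI := hp
  obtain ⟨P₀, hP₀⟩ := h p
  haveI := Sylow.unique_of_normal P₀ hP₀
  rw [Subsingleton.elim P P₀]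
  exact hP₀

theorem isNilpotent_of_eq_top_pgroup {p : ℕ} [Fact p.Prime] {S : Subgroup G} (hS : IsPGroup p S)
    (htop : S = ⊤) : Group.IsNilpotent G := by
  subst htop
  have : IsPGroup p G := IsPGroup.of_equiv hS Subgroup.topEquiv
  exact this.isNilpotent

variable {r : ℕ} {φ : G ≃* G}

theorem FCtx.exists_inv_sylow (c : FCtx r G φ) (p : ℕ) [Fact p.Prime] :
    ∃ P : Sylow p G, Inv φ (P : Subgroup G) := by
  obtain ⟨P, hP⟩ := Cfsg.Agent.S0031.result φ c.fpf p
  exact ⟨P, inv_of_map_eq hP⟩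

theorem inv_TJ {p : ℕ} {S : Subgroup G} (hS : Inv φ S) : Inv φ (TJ p S) := by
  apply inv_of_map_eq
  rw [← TJ_map_of_injective (φ : G →* G) φ.injective, map_eq_of_inv hS]

theorem inv_of_index_pow {p : ℕ} [hp : Fact p.Prime] {K : Subgroup G} [K.Normal]
    (hc : (Nat.card K).Coprime p) {k : ℕ} (hk : K.index = p ^ k) : Inv φ K := by
  intro x hx
  apply mem_of_index_pow hk
  rw [MulEquiv.orderOf_eq]
  have h1 : orderOf x ∣ Nat.card K := by
    have := orderOf_dvd_natCard (⟨x, hx⟩ : K)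
    rwa [Subgroup.orderOf_mk] at this
  exact Nat.Coprime.coprime_dvd_left h1 hc

theorem FCtx.case_simple (c : FCtx r G φ)
    (hmin : ∀ N' : Subgroup G, N'.Normal → Inv φ N' → N' ≠ ⊥ → N' = ⊤) : False := by
  by_cases h2 : IsPGroup 2 G
  · exact c.cex h2.isNilpotent
  have hex : ∃ p : ℕ, p.Prime ∧ p ∣ Nat.card G ∧ p ≠ 2 := by
    by_contra hcon
    push Not at hcon
    apply h2
    have := Nat.eq_prime_pow_of_unique_prime_dvd (n := Nat.card G) (p := 2) Nat.card_pos.ne'
      (fun {d} hd hdvd => hcon d hd hdvd)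
    exact IsPGroup.of_card this
  obtain ⟨p, hp, hpG, hp2⟩ := hex
  haveI : Fact p.Prime := ⟨hp⟩
  obtain ⟨P, hP⟩ := c.exists_inv_sylow p
  have hPne : (P : Subgroup G) ≠ ⊥ := Sylow.ne_bot_of_dvd_card P hpG
  have hPtop : (P : Subgroup G) ≠ ⊤ := fun h => c.cex (isNilpotent_of_eq_top_pgroup P.isPGroup' h)
  have hle_top : ∀ X : Subgroup G, X ≤ (P : Subgroup G) → X ≠ ⊤ := by
    intro X hX h
    apply hPtop
    rw [eq_top_iff, ← h]
    exact hX
  have hnpc : HasNormalPComplement p G := by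
    apply thompson_npc hp2 P
    constructor
    · have hJ : Inv φ (TJ p (P : Subgroup G)) := inv_TJ hP
      have hNJ := inv_normalizer hJ
      have hne : Subgroup.normalizer (TJ p (P : Subgroup G) : Set G) ≠ ⊤ := by
        intro h
        have hn : (TJ p (P : Subgroup G)).Normal := Subgroup.normalizer_eq_top_iff.mp h
        exact hle_top _ (TJ_le p _) (hmin _ hn hJ (TJ_ne_bot P.isPGroup' hPne))
      exact NilMax.npc_of_isNilpotent (c.sub _ hNJ hne)
    · have hZ : Inv φ ((P : Subgroup G) ⊓ Subgroup.centralizer ((P : Subgroup G) : Set G)) :=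
        inv_inf hP (inv_centralizer hP)
      have hCZ := inv_centralizer hZ
      have hne : Subgroup.centralizer
          (((P : Subgroup G) ⊓ Subgroup.centralizer ((P : Subgroup G) : Set G) : Subgroup G) : Set G) ≠ ⊤ := by
        intro h
        have hn : ((P : Subgroup G) ⊓ Subgroup.centralizer ((P : Subgroup G) : Set G)).Normal := by
          rw [← Subgroup.normalizer_eq_top_iff, eq_top_iff, ← h]
          exact Subgroup.centralizer_le_normalizer _
        exact hle_top _ inf_le_left (hmin _ hn hZ (Z_ne_bot P.isPGroup' hPne))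
      exact NilMax.npc_of_isNilpotent (c.sub _ hCZ hne)
  obtain ⟨K, hKn, hKc, k, hk⟩ := npc_iff.mp hnpc
  haveI := hKn
  have hKinv : Inv φ K := inv_of_index_pow hKc hk
  by_cases hK : K = ⊥
  · rw [hK, Subgroup.index_bot] at hk
    exact c.cex (IsPGroup.of_card hk).isNilpotent
  · have htop := hmin K hKn hKinv hK
    rw [htop, Subgroup.card_top] at hKc
    exact (hp.coprime_iff_not_dvd.mp hKc.symm) hpG

end

end Cfsg.Agent.Lib.Helper1.FPF
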