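import Mathlib
import Cfsg.Agent.Lib.Helper1.FPF.Main

set_option autoImplicit false

namespace Cfsg.Agent.Lib.Helper1.FPF

open Cfsg Cfsg.Agent.S5306 Cfsg.Agent.Lib.Helper1.TNPC

open scoped Pointwise

universe u

section

variable {G : Type u} [Group G] [Finite G] {r : ℕ} {φ : G ≃* G}

theorem FCtx.case_solvable (c : FCtx r G φ) (N : Subgroup G) [hNn : N.Normal] (hN : Inv φ N)
    (hNne : N ≠ ⊥) (hNtop : N ≠ ⊤)
    (hmin : ∀ N' : Subgroup G, N'.Normal → Inv φ N' → N' ≠ ⊥ → N' ≤ N → N' = N) : False := by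
  haveI hNnil : Group.IsNilpotent N := c.sub N hN hNtop
  have hcard1 : Nat.card N ≠ 1 := fun h => hNne (Subgroup.eq_bot_of_card_eq N h)
  obtain ⟨q, hq, hqdvd⟩ := Nat.exists_prime_and_dvd hcard1
  haveI : Fact q.Prime := ⟨hq⟩
  have hNq : IsPGroup q N := by
    let Q₁ : Sylow q N := default
    have hQ₁n : (Q₁ : Subgroup N).Normal := inferInstance
    haveI hQ₁c : (Q₁ : Subgroup N).Characteristic := Sylow.characteristic_of_normal Q₁ hQ₁n
    set Q' := (Q₁ : Subgroup N).map N.subtype with hQ'
    have hQ'n : Q'.Normal := inferInstance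
    have hQ'N : Q' ≤ N := Subgroup.map_subtype_le _
    have hQ'inv : Inv φ Q' := by
      rintro _ ⟨y, hy, rfl⟩
      have h1 := (Subgroup.characteristic_iff_map_eq.mp hQ₁c) (resAut φ N hN)
      have h2 : resAut φ N hN y ∈ (Q₁ : Subgroup N) := by
        rw [← h1]
        exact ⟨y, hy, rfl⟩
      exact ⟨resAut φ N hN y, h2, rfl⟩
    have hQ'ne : Q' ≠ ⊥ := by
      intro h
      apply Sylow.ne_bot_of_dvd_card Q₁ hqdvd
      rw [eq_bot_iff]
      intro y hy
      have : (y : G) ∈ Q' := ⟨y, hy, rfl⟩
      rw [h, Subgroup.mem_bot] at this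
      rw [Subgroup.mem_bot]
      exact Subtype.ext this
    have heq := hmin Q' hQ'n hQ'inv hQ'ne hQ'N
    have := Q₁.isPGroup'.map N.subtype
    rw [← hQ', heq] at this
    exact this
  have hNcomm : N ≤ Subgroup.centralizer (N : Set G) := by
    have h1 : (N ⊓ Subgroup.centralizer (N : Set G)).Normal := inferInstance
    have h2 := hmin _ h1 (inv_inf hN (inv_centralizer hN)) (Z_ne_bot hNq hNne) inf_le_left
    have h3 : N ⊓ Subgroup.centralizer (N : Set G) ≤ Subgroup.centralizer (N : Set G) :=
      inf_le_right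
    rwa [h2] at h3
  haveI hNc : IsMulCommutative N := by
    refine ⟨⟨?_⟩⟩
    rintro ⟨a, ha⟩ ⟨b, hb⟩
    apply Subtype.ext
    show a * b = b * a
    exact (Subgroup.mem_centralizer_iff.mp (hNcomm hb) a ha)
  haveI hQnil : Group.IsNilpotent (G ⧸ N) := c.quot N hN hNne
  apply c.cex
  apply isNilpotent_of_sylow_normal
  intro p hp
  obtain ⟨P, hP⟩ := c.exists_inv_sylow p
  refine ⟨P, ?_⟩
  have hsurj := QuotientGroup.mk'_surjective N
  set L := (P : Subgroup G) ⊔ N with hL
  have hLn : L.Normal := by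
    have h1 : ((Sylow.mapSurjective hsurj P : Sylow p (G ⧸ N)) : Subgroup (G ⧸ N)).Normal :=
      inferInstance
    have h2 : ((Sylow.mapSurjective hsurj P : Sylow p (G ⧸ N)) : Subgroup (G ⧸ N)).comap
        (QuotientGroup.mk' N) = L := by
      rw [Sylow.coe_mapSurjective, Subgroup.comap_map_eq, QuotientGroup.ker_mk']
    rw [← h2]
    exact Subgroup.Normal.comap h1 _
  have hLinv : Inv φ L := inv_sup hP hN
  by_cases hpq : p = q
  · subst hpq
    have hLp : IsPGroup p L := P.isPGroup'.to_sup_of_normal_right hNq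
    have : L = (P : Subgroup G) := P.is_maximal' hLp le_sup_left
    rw [← this]
    exact hLn
  by_cases hLtop : L = ⊤
  · set C := N ⊓ Subgroup.centralizer ((P : Subgroup G) : Set G) with hC
    have hCn : C.Normal := by
      constructor
      intro x hx g
      have hg : g ∈ ((P : Subgroup G) ⊔ N : Subgroup G) := by
        rw [← hL, hLtop]
        exact Subgroup.mem_top g
      rw [← SetLike.mem_coe, Subgroup.mul_normal] at hg
      obtain ⟨u, hu, n, hn, rfl⟩ := hg
      have h1 : n * x = x * n := (Subgroup.mem_centralizer_iff.mp (hNcomm hx.1) n hn)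
      have h2 : u * x = x * u := (Subgroup.mem_centralizer_iff.mp hx.2 u hu)
      have e : u * n * x * (u * n)⁻¹ = x := by
        calc u * n * x * (u * n)⁻¹ = u * (n * x) * n⁻¹ * u⁻¹ := by group
          _ = u * (x * n) * n⁻¹ * u⁻¹ := by rw [h1]
          _ = (u * x) * u⁻¹ := by group
          _ = (x * u) * u⁻¹ := by rw [h2]
          _ = x := by group
      rw [e]
      exact hx
    have hCinv : Inv φ C := inv_inf hN (inv_centralizer hP)
    by_cases hCbot : C = ⊥
    · exfalso
      apply hNne
      apply eq_bot_of_fpf_coprime φ N hN c.fpf c.hr c.pow (P : Subgroup G) hP _ hCbot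
      obtain ⟨a, ha⟩ := IsPGroup.iff_card.mp hNq
      obtain ⟨b, hb⟩ := IsPGroup.iff_card.mp P.isPGroup'
      rw [ha, hb]
      exact Nat.Coprime.pow _ _ ((Nat.coprime_primes hq hp.out).mpr (Ne.symm hpq))
    · have hCN := hmin C hCn hCinv hCbot inf_le_left
      have hNP : N ≤ Subgroup.centralizer ((P : Subgroup G) : Set G) := by
        have h3 : C ≤ Subgroup.centralizer ((P : Subgroup G) : Set G) := inf_le_right
        rwa [hCN] at h3
      rw [← Subgroup.normalizer_eq_top_iff, eq_top_iff, ← hLtop, hL]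
      exact sup_le Subgroup.le_normalizer
        (hNP.trans (Subgroup.centralizer_le_normalizer _))
  · haveI hLnil : Group.IsNilpotent L := c.sub L hLinv hLtop
    have hPL : (P : Subgroup G) ≤ L := le_sup_left
    have hPLn : ((P.subtype hPL : Sylow p L) : Subgroup L).Normal := inferInstance
    haveI hPLc : ((P.subtype hPL : Sylow p L) : Subgroup L).Characteristic :=
      Sylow.characteristic_of_normal _ hPLn
    haveI := hLn
    have h1 : (((P.subtype hPL : Sylow p L) : Subgroup L).map L.subtype).Normal := inferInstance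
    have h2 : ((P.subtype hPL : Sylow p L) : Subgroup L).map L.subtype = (P : Subgroup G) := by
      rw [Sylow.coe_subtype, Subgroup.subgroupOf_map_subtype]
      exact inf_eq_left.mpr hPL
    rw [← h2]
    exact h1

theorem fpf_nilpotent_aux {r : ℕ} (hr : r.Prime) : ∀ (n : ℕ) (G : Type u) [Group G] [Finite G],
    Nat.card G = n → ∀ φ : G ≃* G, MonoidHom.FixedPointFree (φ : G →* G) →
    (φ : MulAut G) ^ r = 1 → Group.IsNilpotent G := by
  intro n
  induction n using Nat.strong_induction_on with
  | _ n ih =>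
    intro G _ _ hn φ hφ hpow
    by_contra hcex
    have c : FCtx r G φ := by
      refine ⟨hr, hφ, hpow, ?_, ?_, hcex⟩
      · intro S hS hStop
        have hlt : Nat.card S < n := by
          rw [← hn]
          exact card_lt_of_ne_top hStop
        exact ih _ hlt ↥S rfl (resAut φ S hS) (resAut_fpf φ hφ S hS)
          (resAut_pow_eq_one φ S hS r hpow)
      · intro N _ hN hNne
        have hlt : Nat.card (G ⧸ N) < n := by
          rw [← hn]
          have e := Subgroup.card_eq_card_quotient_mul_card_subgroup N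
          have h2 : 1 < Nat.card N := (Subgroup.one_lt_card_iff_ne_bot N).mpr hNne
          have h3 : 0 < Nat.card (G ⧸ N) := Nat.card_pos
          rw [e]
          nlinarith
        exact ih _ hlt (G ⧸ N) rfl (quotAut φ N hN) (quotAut_fpf φ hφ N hN)
          (quotAut_pow_eq_one φ N hN r hpow)
    have htriv : (⊤ : Subgroup G) ≠ ⊥ := by
      intro h
      apply hcex
      haveI : Subsingleton G := by
        rw [← Subgroup.subsingleton_iff]
        exact subsingleton_of_bot_eq_top h.symm
      infer_instance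
    let T := {N : Subgroup G // N.Normal ∧ Inv φ N ∧ N ≠ ⊥}
    haveI : Nonempty T := ⟨⟨⊤, inferInstance, inv_top φ, htriv⟩⟩
    obtain ⟨⟨N, hNn, hN, hNne⟩, hNmin⟩ := Finite.exists_min (fun N : T => Nat.card (N.1 : Subgroup G))
    have hmin : ∀ N' : Subgroup G, N'.Normal → Inv φ N' → N' ≠ ⊥ → N' ≤ N → N' = N := by
      intro N' h1 h2 h3 h4
      exact Subgroup.eq_of_le_of_card_ge h4 (hNmin ⟨N', h1, h2, h3⟩)
    by_cases hNtop : N = ⊤
    · apply c.case_simple
      intro N' h1 h2 h3
      rw [← hNtop]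
      exact hmin N' h1 h2 h3 (by rw [hNtop]; exact le_top)
    · haveI := hNn
      exact c.case_solvable N hN hNne hNtop hmin

theorem fpf_nilpotent {G : Type u} [Group G] [Finite G] (φ : G ≃* G)
    (hφ : MonoidHom.FixedPointFree (φ : G →* G)) {r : ℕ} (hr : r.Prime)
    (hpow : (φ : MulAut G) ^ r = 1) : Group.IsNilpotent G :=
  fpf_nilpotent_aux hr (Nat.card G) G rfl φ hφ hpow

end

end Cfsg.Agent.Lib.Helper1.FPF
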